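import Mathlib
import Groth.Agent.Lib.Helper1.PdFibre

/-!
# helper8: upper semicontinuity of the projective dimension of the fibre stalks (S19197)
-/

set_option autoImplicit false
universe u

open TensorProduct Function CategoryTheory

namespace Groth.Agent.H8.FibPd

open Groth.Agent.H1.PdFibre

section order

theorem upperSemicontinuous_of_forall_nat {α : Type*} [TopologicalSpace α] (f : α → WithBot ℕ∞)
    (h : ∀ n : ℕ, IsOpen {x | f x < (n : WithBot ℕ∞)}) : UpperSemicontinuous f := by
  rw [upperSemicontinuous_iff_isOpen_preimage]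
  intro y
  induction y with
  | bot =>
    have : f ⁻¹' Set.Iio ⊥ = ∅ := by
      ext x
      simp
    rw [this]
    exact isOpen_empty
  | coe d =>
    induction d with
    | top =>
      have : f ⁻¹' Set.Iio ((⊤ : ℕ∞) : WithBot ℕ∞) = ⋃ n : ℕ, {x | f x < (n : WithBot ℕ∞)} := by
        ext x
        simp only [Set.mem_preimage, Set.mem_Iio, Set.mem_iUnion, Set.mem_setOf_eq]
        constructor
        · intro hx
          generalize f x = z at hx
          induction z with
          | bot => exact ⟨0, WithBot.bot_lt_coe _⟩
          | coe e =>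
            induction e with
            | top => exact absurd hx (lt_irrefl _)
            | coe m => exact ⟨m + 1, by exact_mod_cast Nat.lt_succ_self m⟩
        · rintro ⟨n, hn⟩
          exact lt_trans hn (by exact_mod_cast ENat.coe_lt_top n)
      rw [this]
      exact isOpen_iUnion h
    | coe m =>
      have := h m
      exact this

end order

section T

variable {A B : Type u} [CommRing A] [CommRing B] [Algebra A B]
  (S : Type u) [CommRing S] [Algebra A S] [Algebra B S] [IsScalarTower A B S]
  (p : Ideal A)

/-- `S ⧸ pS ≃ S ⊗[B] (B ⊗[A] A/p)` -/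
noncomputable def phi : (S ⧸ p.map (algebraMap A S)) ≃ₗ[B] S ⊗[B] (B ⊗[A] (A ⧸ p)) :=
  ((Algebra.TensorProduct.quotIdealMapEquivTensorQuot S p).toLinearEquiv ≪≫ₗ
    (AlgebraTensorModule.cancelBaseChange A B S S (A ⧸ p)).symm).restrictScalars B

variable [Module.Flat B S]

/-- `Tor`-vanishing for the fibre local ring -/
theorem lTensor_quot_injective {X Y : Type u} [AddCommGroup X] [Module B X] [Module A X]
    [IsScalarTower A B X] [AddCommGroup Y] [Module B Y] [Module A Y] [IsScalarTower A B Y]
    [Module.Flat A Y] (f : X →ₗ[B] Y) (hf : Surjective f) :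
    Injective ((LinearMap.ker f).subtype.lTensor (S ⧸ p.map (algebraMap A S))) := by
  have h1 : Injective ((LinearMap.ker f).subtype.lTensor (B ⊗[A] (A ⧸ p))) :=
    lTensor_fibre_injective (A ⧸ p) f hf
  have h2 : Injective (((LinearMap.ker f).subtype.lTensor (B ⊗[A] (A ⧸ p))).lTensor S) :=
    Module.Flat.lTensor_preserves_injective_linearMap _ h1
  have h3 : Injective ((LinearMap.ker f).subtype.lTensor (S ⊗[B] (B ⊗[A] (A ⧸ p)))) := by
    rw [LinearMap.lTensor_tensor]
    simp only [LinearMap.coe_comp, LinearEquiv.coe_coe]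
    exact (LinearEquiv.injective _).comp (h2.comp (LinearEquiv.injective _))
  have hsq : ∀ z, (LinearEquiv.rTensor X (phi S p))
      ((LinearMap.ker f).subtype.lTensor (S ⧸ p.map (algebraMap A S)) z) =
      (LinearMap.ker f).subtype.lTensor (S ⊗[B] (B ⊗[A] (A ⧸ p)))
        ((LinearEquiv.rTensor (LinearMap.ker f) (phi S p)) z) := by
    intro z
    induction z using TensorProduct.induction_on with
    | zero => simp only [map_zero]
    | tmul c x => rfl
    | add a b ha hb => simp only [map_add, ha, hb]
  intro z z' hzz'
  apply (LinearEquiv.rTensor (LinearMap.ker f) (phi S p)).injective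
  apply h3
  rw [← hsq, ← hsq, hzz']

variable [Algebra.FinitePresentation A B] [Module.Flat A B]

/-- base-changed syzygy complex over the fibre local ring -/
noncomputable def scQ (X : GMod A B) : ShortComplex (ModuleCat.{u} (S ⧸ p.map (algebraMap A S))) :=
  ShortComplex.mk
    (ModuleCat.ofHom ((LinearMap.ker X.pr).subtype.baseChange (S ⧸ p.map (algebraMap A S))))
    (ModuleCat.ofHom (X.pr.baseChange (S ⧸ p.map (algebraMap A S)))) (by
      ext x
      change (X.pr.baseChange (S ⧸ p.map (algebraMap A S)))
        (((LinearMap.ker X.pr).subtype.baseChange (S ⧸ p.map (algebraMap A S)))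
          ((1 : S ⧸ p.map (algebraMap A S)) ⊗ₜ[B] x)) = 0
      rw [LinearMap.baseChange_tmul, LinearMap.baseChange_tmul]
      have : X.pr ((LinearMap.ker X.pr).subtype x) = 0 := x.2
      rw [this, TensorProduct.tmul_zero])

omit [Algebra.FinitePresentation A B] [Module.Flat A B] in
theorem scQ_shortExact (X : GMod A B) : (scQ S p X).ShortExact := by
  haveI : Mono (scQ S p X).f := (ModuleCat.mono_iff_injective _).mpr
    (lTensor_quot_injective S p X.pr X.pr_surjective)
  haveI : Epi (scQ S p X).g := (ModuleCat.epi_iff_surjective _).mpr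
    (LinearMap.lTensor_surjective (S ⧸ p.map (algebraMap A S)) X.pr_surjective)
  refine ShortComplex.ShortExact.mk' ?_ inferInstance inferInstance
  rw [ShortComplex.ShortExact.moduleCat_exact_iff_function_exact]
  exact lTensor_exact (S ⧸ p.map (algebraMap A S)) (LinearMap.exact_subtype_ker_map X.pr)
    X.pr_surjective

/-- dimension shifting over the fibre local ring -/
theorem hasPDLT_quot_iff (X : GMod A B) (n : ℕ) :
    HasProjectiveDimensionLT (ModuleCat.of (S ⧸ p.map (algebraMap A S))
      ((S ⧸ p.map (algebraMap A S)) ⊗[B] X.Z)) (n + 1) ↔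
      Module.Projective (S ⧸ p.map (algebraMap A S))
        ((S ⧸ p.map (algebraMap A S)) ⊗[B] (X.seq n).Z) := by
  have h := hasProjectiveDimensionLT_iff_projective_syzygy
    (fun n => ModuleCat.of (S ⧸ p.map (algebraMap A S))
      ((S ⧸ p.map (algebraMap A S)) ⊗[B] (X.seq n).Z))
    (fun n => ModuleCat.of (S ⧸ p.map (algebraMap A S))
      ((S ⧸ p.map (algebraMap A S)) ⊗[B] (Fin (X.seq n).rk → B)))
    (fun n => (scQ S p (X.seq n)).f) (fun n => (scQ S p (X.seq n)).g)
    (fun n => (scQ S p (X.seq n)).zero)
    (fun n => scQ_shortExact S p (X.seq n))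
    (fun n => (IsProjective.iff_projective (R := S ⧸ p.map (algebraMap A S))
      ((S ⧸ p.map (algebraMap A S)) ⊗[B] (Fin (X.seq n).rk → B))).mp inferInstance) n 0
  rw [Nat.zero_add] at h
  exact h.trans (IsProjective.iff_projective (R := S ⧸ p.map (algebraMap A S)) _).symm

end T

section K2

variable {A B : Type u} [CommRing A] [CommRing B] [Algebra A B] (P : PrimeSpectrum B)

set_option quotPrecheck false in
local notation "Sl" => Localization.AtPrime P.asIdeal
set_option quotPrecheck false in
local notation "Fl" => Localization.AtPrime P.asIdeal ⧸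
  (P.asIdeal.under A).map (algebraMap A (Localization.AtPrime P.asIdeal))

theorem map_under_le : (P.asIdeal.under A).map (algebraMap A Sl) ≤ IsLocalRing.maximalIdeal Sl := by
  rw [Ideal.map_le_iff_le_comap]
  intro a ha
  rw [Ideal.mem_comap, IsScalarTower.algebraMap_apply A B Sl]
  exact (IsLocalization.AtPrime.to_map_mem_maximal_iff Sl P.asIdeal _).mpr ha

theorem map_under_ne_top : (P.asIdeal.under A).map (algebraMap A Sl) ≠ ⊤ := fun htop =>
  (IsLocalRing.maximalIdeal.isMaximal _).ne_top (top_le_iff.mp (htop ▸ map_under_le (A := A) P))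

theorem isBaseChange_fib (Z : Type u) [AddCommGroup Z] [Module B Z] :
    IsBaseChange Fl
      (((TensorProduct.mk Sl Fl (LocalizedModule P.asIdeal.primeCompl Z) 1).restrictScalars B) ∘ₗ
        LocalizedModule.mkLinearMap P.asIdeal.primeCompl Z) :=
  IsBaseChange.comp
    (IsLocalizedModule.isBaseChange P.asIdeal.primeCompl Sl
      (LocalizedModule.mkLinearMap P.asIdeal.primeCompl Z))
    (TensorProduct.isBaseChange Sl (LocalizedModule P.asIdeal.primeCompl Z) Fl)

theorem projective_fib_iff (Z : Type u) [AddCommGroup Z] [Module B Z] [Module A Z]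
    [IsScalarTower A B Z] [Module.FinitePresentation B Z] [Module.Flat A Z] :
    Module.Projective Fl (Fl ⊗[B] Z) ↔
      Module.Free Sl (LocalizedModule P.asIdeal.primeCompl Z) := by
  have e := (isBaseChange_fib (A := A) P Z).equiv
  constructor
  · intro h
    haveI := h
    haveI : Module.Flat Fl (Fl ⊗[B] Z) := Module.Flat.of_projective
    haveI : Module.Flat Fl (Fl ⊗[Sl] (LocalizedModule P.asIdeal.primeCompl Z)) :=
      Module.Flat.of_linearEquiv e.symm
    haveI : Module.Flat A (LocalizedModule P.asIdeal.primeCompl Z) :=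
      Groth.Agent.H1.FibreFree.flat_localizedModule_of_flat _
    exact Groth.Agent.H1.FibreFree.free_of_flat_of_flat_fibre (A := A) (P.asIdeal.under A)
      (map_under_ne_top (A := A) P)
  · intro h
    haveI := h
    haveI : Module.Free Fl (Fl ⊗[Sl] (LocalizedModule P.asIdeal.primeCompl Z)) := inferInstance
    haveI : Module.Projective Fl (Fl ⊗[Sl] (LocalizedModule P.asIdeal.primeCompl Z)) :=
      inferInstance
    exact Module.Projective.of_equiv e.symm

theorem subsingleton_fib_iff (M : Type u) [AddCommGroup M] [Module B M] [Module.Finite B M] :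
    Subsingleton (Fl ⊗[B] M) ↔ P ∉ Module.support B M := by
  rw [Module.notMem_support_iff]
  have e := (isBaseChange_fib (A := A) P M).equiv
  rw [e.toEquiv.subsingleton_congr]
  constructor
  · intro h
    have h1 : (⊤ : Submodule Sl (LocalizedModule P.asIdeal.primeCompl M)) ≤
        ((P.asIdeal.under A).map (algebraMap A Sl)) • ⊤ := by
      intro x _
      rw [← Groth.Agent.H1.FibreFree.one_tmul_eq_zero_iff]
      exact Subsingleton.elim _ _
    have h2 := Submodule.eq_bot_of_le_smul_of_le_jacobson_bot _ _ Module.Finite.fg_top h1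
      ((map_under_le (A := A) P).trans (IsLocalRing.maximalIdeal_le_jacobson ⊥))
    refine ⟨fun a b => ?_⟩
    have ha : a ∈ (⊤ : Submodule Sl (LocalizedModule P.asIdeal.primeCompl M)) := trivial
    have hb : b ∈ (⊤ : Submodule Sl (LocalizedModule P.asIdeal.primeCompl M)) := trivial
    rw [h2, Submodule.mem_bot] at ha hb
    rw [ha, hb]
  · intro h
    refine ⟨fun a b => ?_⟩
    have h0 : ∀ c : Fl ⊗[Sl] (LocalizedModule P.asIdeal.primeCompl M), c = 0 := by
      intro c
      induction c using TensorProduct.induction_on with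
      | zero => rfl
      | add a b ha hb => rw [ha, hb, add_zero]
      | tmul x y => rw [Subsingleton.elim y 0, TensorProduct.tmul_zero]
    rw [h0 a, h0 b]

end K2

section main

theorem s19197 (A B M : Type u) [CommRing A] [CommRing B] [Algebra A B]
    [Algebra.FinitePresentation A B] [Module.Flat A B] [AddCommGroup M] [Module B M] [Module A M]
    [IsScalarTower A B M] [Module.FinitePresentation B M] [Module.Flat A M] :
    UpperSemicontinuous fun P : PrimeSpectrum B => projectiveDimension (ModuleCat.of
      (Localization.AtPrime P.asIdeal ⧸ (P.asIdeal.under A).map (algebraMap A (Localization.AtPrime P.asIdeal)))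
      ((Localization.AtPrime P.asIdeal ⧸ (P.asIdeal.under A).map (algebraMap A (Localization.AtPrime P.asIdeal))) ⊗[B] M)) := by
  apply upperSemicontinuous_of_forall_nat
  intro n
  cases n with
  | zero =>
    have : {P : PrimeSpectrum B | projectiveDimension (ModuleCat.of
        (Localization.AtPrime P.asIdeal ⧸ (P.asIdeal.under A).map (algebraMap A (Localization.AtPrime P.asIdeal)))
        ((Localization.AtPrime P.asIdeal ⧸ (P.asIdeal.under A).map (algebraMap A (Localization.AtPrime P.asIdeal))) ⊗[B] M)) < ((0 : ℕ) : WithBot ℕ∞)} = (Module.support B M)ᶜ := by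
      ext P
      rw [Set.mem_setOf_eq, projectiveDimension_lt_iff, hasProjectiveDimensionLT_zero_iff_isZero,
        ModuleCat.isZero_iff_subsingleton, Set.mem_compl_iff]
      exact subsingleton_fib_iff (A := A) P M
    rw [this, Module.support_eq_zeroLocus]
    exact (PrimeSpectrum.isClosed_zeroLocus _).isOpen_compl
  | succ k =>
    let X : GMod A B := ⟨M⟩
    have : {P : PrimeSpectrum B | projectiveDimension (ModuleCat.of
        (Localization.AtPrime P.asIdeal ⧸ (P.asIdeal.under A).map (algebraMap A (Localization.AtPrime P.asIdeal)))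
        ((Localization.AtPrime P.asIdeal ⧸ (P.asIdeal.under A).map (algebraMap A (Localization.AtPrime P.asIdeal))) ⊗[B] M)) < ((k + 1 : ℕ) : WithBot ℕ∞)} =
        Module.freeLocus B (X.seq k).Z := by
      ext P
      rw [Set.mem_setOf_eq, projectiveDimension_lt_iff]
      haveI : Module.Flat B (Localization.AtPrime P.asIdeal) :=
        IsLocalization.flat _ P.asIdeal.primeCompl
      change HasProjectiveDimensionLT (ModuleCat.of
        (Localization.AtPrime P.asIdeal ⧸ (P.asIdeal.under A).map (algebraMap A (Localization.AtPrime P.asIdeal)))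
        ((Localization.AtPrime P.asIdeal ⧸ (P.asIdeal.under A).map (algebraMap A (Localization.AtPrime P.asIdeal))) ⊗[B] X.Z)) (k + 1) ↔ _
      rw [hasPDLT_quot_iff (Localization.AtPrime P.asIdeal) (P.asIdeal.under A) X k,
        projective_fib_iff (A := A) P (X.seq k).Z, Module.mem_freeLocus]
    rw [this]
    exact Module.isOpen_freeLocus

end main

end Groth.Agent.H8.FibPd
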